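import Mathlib
import Groth.Prelude
import Groth.Agent.Lib.Helper8.RegBC.QR
import Groth.Agent.Lib.Helper8.RGCI.Main2237
import Groth.Agent.Lib.Helper5.QRBC.A
import Groth.Agent.Lib.Helper2.QuasiReg3
import Groth.Agent.S2586
import Groth.Agent.S5803

set_option autoImplicit false
set_option linter.style.haveILetI false

universe u

open TensorProduct Algebra

namespace Groth.Agent.H8.QRLift

section transport

/-- quasi-regular sequences are transported by ring isomorphisms. -/
theorem isQuasiRegular_ringEquiv {R R' : Type u} [CommRing R] [CommRing R'] (e : R ≃+* R') {c : ℕ}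
    (f : Fin c → R) (hf : CAlgX.IsQuasiRegular f) : CAlgX.IsQuasiRegular (fun i => e (f i)) := by
  letI : Algebra R R' := e.toRingHom.toAlgebra
  haveI : Module.Flat R R' := by
    let l : R ≃ₗ[R] R' := LinearEquiv.ofBijective (Algebra.linearMap R R') e.bijective
    exact Module.Flat.of_linearEquiv l.symm
  exact Groth.Agent.H8.RegBC.isQuasiRegular_map_of_flat f hf

lemma ofList_ofFn {T : Type*} [CommRing T] {d : ℕ} (f : Fin d → T) :
    Ideal.ofList (List.ofFn f) = Ideal.span (Set.range f) := by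
  unfold Ideal.ofList
  congr 1
  ext x
  simp [List.mem_ofFn]

end transport

section fibre

variable (A' B' : Type u) [CommRing A'] [CommRing B'] [Algebra A' B'] (I : Ideal A')
  (κ : Type u) [CommRing κ] [Algebra A' κ] [Algebra (A' ⧸ I) κ] [IsScalarTower A' (A' ⧸ I) κ]

/-- `κ ⊗_{A'/I} (B'/IB') ≅ κ ⊗_{A'} B'`. -/
noncomputable def fibEquiv :
    κ ⊗[A' ⧸ I] (B' ⧸ I.map (algebraMap A' B')) ≃ₐ[κ] κ ⊗[A'] B' :=
  (Algebra.TensorProduct.congr (AlgEquiv.refl : κ ≃ₐ[κ] κ)
    (Algebra.TensorProduct.quotIdealMapEquivQuotTensor B' I)).trans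
    (Algebra.TensorProduct.cancelBaseChange A' (A' ⧸ I) κ κ B')

theorem fibEquiv_tmul (c : κ) (b : B') :
    fibEquiv A' B' I κ (c ⊗ₜ Ideal.Quotient.mk _ b) = c ⊗ₜ b := by
  simp [fibEquiv]

/-- the images of the `f'_i` in the fibre `B' ⊗ κ` are quasi-regular. -/
theorem isQuasiRegular_fibre (r : ℕ) (f' : Fin r → B')
    (hq : CAlgX.IsQuasiRegular
      (fun i => Ideal.Quotient.mk (Ideal.map (algebraMap A' B') I) (f' i)))
    (hflat : Module.Flat (A' ⧸ I)
      ((B' ⧸ Ideal.map (algebraMap A' B') I) ⧸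
        Ideal.span (Set.range (fun i => Ideal.Quotient.mk (Ideal.map (algebraMap A' B') I) (f' i))))) :
    CAlgX.IsQuasiRegular (fun i => (f' i ⊗ₜ[A'] (1 : κ) : B' ⊗[A'] κ)) := by
  have h1 := Groth.Agent.Lib.Helper5.QRBC.main (A' ⧸ I) (B' ⧸ I.map (algebraMap A' B')) κ r _
    hflat hq
  let E : κ ⊗[A' ⧸ I] (B' ⧸ I.map (algebraMap A' B')) ≃+* B' ⊗[A'] κ :=
    (fibEquiv A' B' I κ).toRingEquiv.trans (Algebra.TensorProduct.comm A' κ B').toRingEquiv
  have h2 := isQuasiRegular_ringEquiv E _ h1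
  have h3 : (fun i => E ((1 : κ) ⊗ₜ[A' ⧸ I] Ideal.Quotient.mk (Ideal.map (algebraMap A' B') I) (f' i))) =
      fun i => (f' i ⊗ₜ[A'] (1 : κ) : B' ⊗[A'] κ) := by
    funext i
    have hE : ∀ x, E x = (Algebra.TensorProduct.comm A' κ B') (fibEquiv A' B' I κ x) :=
      fun x => rfl
    rw [hE, fibEquiv_tmul]
    rfl
  rw [h3] at h2
  exact h2

end fibre

section loc

variable {B' T : Type u} [CommRing B'] [CommRing T] [Algebra B' T] [IsNoetherianRing T]
  (q : Ideal B') [q.IsPrime]

/-- abstract form: regularity on the localized module from quasi-regularity. -/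
theorem isRegular_localizedModule_of_isQuasiRegular {r : ℕ} (f' : Fin r → B')
    (hqr : CAlgX.IsQuasiRegular (fun i => algebraMap B' T (f' i)))
    (hfq : ∀ i, f' i ∈ q)
    (hJ : ∀ x ∈ q, algebraMap B' (Localization (Algebra.algebraMapSubmonoid T q.primeCompl)) x ∈
      Ring.jacobson (Localization (Algebra.algebraMapSubmonoid T q.primeCompl)))
    [Nontrivial (Localization (Algebra.algebraMapSubmonoid T q.primeCompl))] :
    RingTheory.Sequence.IsRegular (LocalizedModule q.primeCompl T) (List.ofFn f') := by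
  set Λ := Localization (Algebra.algebraMapSubmonoid T q.primeCompl) with hΛ
  have h1 : CAlgX.IsQuasiRegular (fun i => algebraMap T Λ (algebraMap B' T (f' i))) :=
    Groth.Agent.H8.RegBC.isQuasiRegular_map_of_flat _ hqr
  have hmem : ∀ i, algebraMap T Λ (algebraMap B' T (f' i)) ∈ Ring.jacobson Λ := by
    intro i
    rw [← IsScalarTower.algebraMap_apply]
    exact hJ _ (hfq i)
  have h2 : RingTheory.Sequence.IsWeaklyRegular Λ
      (List.ofFn fun i => algebraMap T Λ (algebraMap B' T (f' i))) :=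
    Groth.Agent.S5803.result Λ r _ hmem h1
  have h3 : RingTheory.Sequence.IsRegular Λ
      (List.ofFn fun i => algebraMap T Λ (algebraMap B' T (f' i))) := by
    refine ⟨h2, ?_⟩
    intro htop
    have h4 : Ideal.ofList (List.ofFn fun i => algebraMap T Λ (algebraMap B' T (f' i))) ≤
        Ideal.jacobson (⊥ : Ideal Λ) := by
      rw [ofList_ofFn, Ideal.span_le]
      rintro _ ⟨i, rfl⟩
      rw [Ideal.jacobson_bot]
      exact hmem i
    have h5 : (⊤ : Ideal Λ) ≤ Ideal.jacobson ⊥ := by
      have h6 : (⊤ : Ideal Λ) =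
          Ideal.ofList (List.ofFn fun i => algebraMap T Λ (algebraMap B' T (f' i))) := by
        rw [htop, smul_eq_mul, Ideal.mul_top]
      rw [h6]
      exact h4
    have h6 := Ideal.jacobson_eq_top_iff.mp (top_le_iff.mp h5)
    exact bot_ne_top h6
  haveI : IsLocalizedModule q.primeCompl (IsScalarTower.toAlgHom B' T Λ).toLinearMap :=
    isLocalizedModule_iff_isLocalization.mpr inferInstance
  let e : LocalizedModule q.primeCompl T ≃ₗ[B'] Λ :=
    IsLocalizedModule.iso q.primeCompl (IsScalarTower.toAlgHom B' T Λ).toLinearMap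
  rw [e.isRegular_congr (List.ofFn f')]
  have h7 : (List.ofFn fun i => algebraMap T Λ (algebraMap B' T (f' i))) =
      (List.ofFn f').map (algebraMap B' Λ) := by
    rw [List.map_ofFn]
    congr 1
  rw [h7] at h3
  refine ((AddEquiv.refl Λ).isRegular_congr ?_).mpr h3
  exact List.forall₂_map_right_iff.mpr
    (List.forall₂_same.mpr fun r _ x => (algebraMap_smul Λ r x).symm)

end loc

end Groth.Agent.H8.QRLift
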