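import Mathlib
import Groth.Prelude
import Groth.Agent.Lib.Helper8.QRLift.A

set_option autoImplicit false
set_option linter.style.haveILetI false

universe u

open TensorProduct Algebra

namespace Groth.Agent.H8.QRLift

section fibJ

variable {A' B' : Type u} [CommRing A'] [CommRing B'] [Algebra A' B'] (q : Ideal B') [q.IsPrime]

theorem exists_smul_eq_tmul_one
    (t : B' ⊗[A'] (q.comap (algebraMap A' B')).ResidueField) :
    ∃ r ∉ q.comap (algebraMap A' B'), ∃ s : B', r • t = s ⊗ₜ 1 := by
  obtain ⟨r, hr, s, hs⟩ := Ideal.Fiber.exists_smul_eq_one_tmul (q.comap (algebraMap A' B'))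
    (Algebra.TensorProduct.comm A' B' _ t)
  refine ⟨r, hr, s, ?_⟩
  apply (Algebra.TensorProduct.comm A' B' (q.comap (algebraMap A' B')).ResidueField).injective
  rw [map_smul, hs]
  rfl

theorem tmul_one_ne_zero (s : B') (hs : s ∉ q) :
    (s ⊗ₜ[A'] (1 : (q.comap (algebraMap A' B')).ResidueField) :
      B' ⊗[A'] (q.comap (algebraMap A' B')).ResidueField) ≠ 0 := by
  obtain ⟨Q, hQprime, hQ⟩ := Groth.Agent.H8.RGCI.exists_fiber_prime (R := A') q
  intro h0
  apply hs
  rw [← hQ]
  show ((1 : (q.comap (algebraMap A' B')).ResidueField) ⊗ₜ[A'] s) ∈ Q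
  have h1 : ((1 : (q.comap (algebraMap A' B')).ResidueField) ⊗ₜ[A'] s) =
      (Algebra.TensorProduct.comm A' B' (q.comap (algebraMap A' B')).ResidueField) (s ⊗ₜ 1) := rfl
  rw [h1, h0, map_zero]
  exact Q.zero_mem

instance nontrivial_loc : Nontrivial (Localization (Algebra.algebraMapSubmonoid
    (B' ⊗[A'] (q.comap (algebraMap A' B')).ResidueField) q.primeCompl)) := by
  rw [← not_subsingleton_iff_nontrivial, IsLocalization.subsingleton_iff
    (M := Algebra.algebraMapSubmonoid (B' ⊗[A'] (q.comap (algebraMap A' B')).ResidueField)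
      q.primeCompl)]
  rintro ⟨s, hs, hs0⟩
  exact tmul_one_ne_zero q s hs hs0

theorem algebraMap_mem_jacobson (x : B') (hx : x ∈ q) :
    algebraMap B' (Localization (Algebra.algebraMapSubmonoid
      (B' ⊗[A'] (q.comap (algebraMap A' B')).ResidueField) q.primeCompl)) x ∈
    Ring.jacobson (Localization (Algebra.algebraMapSubmonoid
      (B' ⊗[A'] (q.comap (algebraMap A' B')).ResidueField) q.primeCompl)) := by
  set p := q.comap (algebraMap A' B') with hp
  set T := B' ⊗[A'] p.ResidueField with hT
  set S := Algebra.algebraMapSubmonoid T q.primeCompl with hS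
  set Λ := Localization S with hΛ
  rw [← Ideal.jacobson_bot, Ideal.mem_jacobson_bot]
  intro y
  obtain ⟨⟨τ, σ⟩, hy⟩ := IsLocalization.surj S y
  obtain ⟨s, hs, hσ⟩ := σ.2
  obtain ⟨r, hr, β, hβ⟩ := exists_smul_eq_tmul_one q τ
  have hbt : ∀ b : B', algebraMap B' T b = b ⊗ₜ 1 := fun b => rfl
  -- the element `w`
  set w : B' := x * β + algebraMap A' B' r * s with hw
  have hwq : w ∉ q := by
    intro hwq
    have h1 : algebraMap A' B' r * s ∈ q := by
      have h2 : algebraMap A' B' r * s = w - x * β := by rw [hw]; ring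
      rw [h2]
      exact q.sub_mem hwq (q.mul_mem_right _ hx)
    rcases Ideal.IsPrime.mem_or_mem inferInstance h1 with h3 | h3
    · exact hr h3
    · exact hs h3
  have hkey : r • (algebraMap B' T x * τ + (σ : T)) = algebraMap B' T w := by
    rw [smul_add, ← mul_smul_comm, hβ, ← hσ, hbt, hbt, hbt, Algebra.TensorProduct.tmul_mul_tmul,
      mul_one, TensorProduct.smul_tmul', ← TensorProduct.add_tmul, Algebra.smul_def, hw]
  -- `r` acts through a unit
  set u : p.ResidueField := algebraMap A' p.ResidueField r with hu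
  have hu0 : u ≠ 0 := by
    intro h0
    exact hr (Ideal.algebraMap_residueField_eq_zero.mp h0)
  have hru : ∀ z : T, ((1 : B') ⊗ₜ[A'] u⁻¹ : T) * (r • z) = z := by
    intro z
    have h1 : r • z = ((1 : B') ⊗ₜ[A'] u : T) * z := by
      rw [Algebra.smul_def]
      congr 1
      rw [Algebra.algebraMap_eq_smul_one, Algebra.TensorProduct.one_def, ← TensorProduct.tmul_smul,
        hu, Algebra.algebraMap_eq_smul_one]
    rw [h1, ← mul_assoc, Algebra.TensorProduct.tmul_mul_tmul, one_mul, inv_mul_cancel₀ hu0,
      ← Algebra.TensorProduct.one_def, one_mul]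
  have hzunit : IsUnit (algebraMap T Λ (algebraMap B' T x * τ + (σ : T))) := by
    rw [← hru (algebraMap B' T x * τ + (σ : T)), hkey, map_mul]
    apply IsUnit.mul
    · apply IsUnit.map
      refine IsUnit.of_mul_eq_one ((1 : B') ⊗ₜ[A'] u : T) ?_
      rw [Algebra.TensorProduct.tmul_mul_tmul, one_mul, inv_mul_cancel₀ hu0,
        ← Algebra.TensorProduct.one_def]
    · exact IsLocalization.map_units Λ (⟨algebraMap B' T w, ⟨w, hwq, rfl⟩⟩ : S)
  have hfin : (algebraMap B' Λ x * y + 1) * algebraMap T Λ (σ : T) =
      algebraMap T Λ (algebraMap B' T x * τ + (σ : T)) := by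
    rw [add_mul, one_mul, mul_assoc, hy, map_add, map_mul,
      ← IsScalarTower.algebraMap_apply B' T Λ]
  exact isUnit_of_mul_isUnit_left (hfin ▸ hzunit)

end fibJ

section main

variable (A' B' : Type u) [CommRing A'] [CommRing B'] [Algebra A' B'] [Module.Flat A' B']
  [Algebra.FinitePresentation A' B'] (I : Ideal A')

theorem main9270 (hI : ∀ x ∈ I, IsNilpotent x) (r : ℕ) (f' : Fin r → B')
    (hq : CAlgX.IsQuasiRegular
      (fun i => Ideal.Quotient.mk (Ideal.map (algebraMap A' B') I) (f' i)))
    (hflat : Module.Flat (A' ⧸ I)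
      ((B' ⧸ Ideal.map (algebraMap A' B') I) ⧸
        Ideal.span (Set.range (fun i => Ideal.Quotient.mk (Ideal.map (algebraMap A' B') I) (f' i))))) :
    Module.Flat A' (B' ⧸ Ideal.span (Set.range f')) := by
  apply Module.flat_of_isLocalized_maximal B' (B' ⧸ Ideal.span (Set.range f'))
    (fun q _ => LocalizedModule q.primeCompl (B' ⧸ Ideal.span (Set.range f')))
    (fun q _ => LocalizedModule.mkLinearMap q.primeCompl _)
  intro q hqmax
  haveI := hqmax.isPrime
  by_cases hfq : ∀ i, f' i ∈ q
  · have hIp : I ≤ q.comap (algebraMap A' B') := by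
      intro x hx
      obtain ⟨n, hn⟩ := hI x hx
      exact Ideal.IsPrime.mem_of_pow_mem inferInstance n (hn ▸ Ideal.zero_mem _)
    letI : Algebra (A' ⧸ I) (q.comap (algebraMap A' B')).ResidueField :=
      (Ideal.Quotient.lift I (algebraMap A' (q.comap (algebraMap A' B')).ResidueField)
        (fun a ha => Ideal.algebraMap_residueField_eq_zero.mpr (hIp ha))).toAlgebra
    haveI : IsScalarTower A' (A' ⧸ I) (q.comap (algebraMap A' B')).ResidueField :=
      IsScalarTower.of_algebraMap_eq (fun a => rfl)
    have hqr := isQuasiRegular_fibre A' B' I (q.comap (algebraMap A' B')).ResidueField r f' hq hflat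
    haveI : IsNoetherianRing (B' ⊗[A'] (q.comap (algebraMap A' B')).ResidueField) := by
      haveI : IsNoetherianRing ((q.comap (algebraMap A' B')).ResidueField ⊗[A'] B') :=
        Algebra.FiniteType.isNoetherianRing (q.comap (algebraMap A' B')).ResidueField _
      exact isNoetherianRing_of_ringEquiv _
        (Algebra.TensorProduct.comm A' (q.comap (algebraMap A' B')).ResidueField B').toRingEquiv
    have hqr' : CAlgX.IsQuasiRegular (fun i => algebraMap B'
        (B' ⊗[A'] (q.comap (algebraMap A' B')).ResidueField) (f' i)) := by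
      have h1 : (fun i => algebraMap B'
          (B' ⊗[A'] (q.comap (algebraMap A' B')).ResidueField) (f' i)) =
          fun i => (f' i ⊗ₜ[A'] (1 : (q.comap (algebraMap A' B')).ResidueField)) := by
        funext i
        simp [Algebra.TensorProduct.algebraMap_apply]
      rw [h1]
      exact hqr
    have hreg := isRegular_localizedModule_of_isQuasiRegular
      (T := B' ⊗[A'] (q.comap (algebraMap A' B')).ResidueField) q f' hqr' hfq
      (algebraMap_mem_jacobson q)
    haveI hflatq : Module.Flat A' (LocalizedModule q.primeCompl B') :=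
      Groth.Agent.H1.LimFlat.flat_localizedModule_of_flat (R := A') (B := B') (M := B')
        q.primeCompl
    obtain ⟨-, H⟩ := Groth.Agent.S2586.main_S2586 (A := A') (B := B') B' q (List.ofFn f')
      (by
        intro b hb
        obtain ⟨i, rfl⟩ := (List.mem_ofFn' f' b).mp hb
        exact hfq i) hflatq hreg
    haveI := H (List.ofFn f').length le_rfl
    have heq : Ideal.ofList ((List.ofFn f').take (List.ofFn f').length) •
        (⊤ : Submodule B' B') = Ideal.span (Set.range f') := by
      rw [List.take_length, smul_eq_mul, Ideal.mul_top, ofList_ofFn]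
    exact Groth.Agent.H1.LimFlat.flat_localizedModule_congr q.primeCompl
      (Submodule.quotEquivOfEq _ _ heq)
  · rw [not_forall] at hfq
    obtain ⟨i, hi⟩ := hfq
    haveI : Subsingleton (LocalizedModule q.primeCompl (B' ⧸ Ideal.span (Set.range f'))) := by
      rw [LocalizedModule.subsingleton_iff]
      intro m
      refine ⟨f' i, hi, ?_⟩
      obtain ⟨y, rfl⟩ := Ideal.Quotient.mk_surjective m
      show Ideal.Quotient.mk _ (f' i * y) = 0
      rw [Ideal.Quotient.eq_zero_iff_mem]
      exact Ideal.mul_mem_right _ _ (Ideal.subset_span ⟨i, rfl⟩)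
    infer_instance

end main

end Groth.Agent.H8.QRLift
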