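import Mathlib
import Groth.Prelude
import Groth.Agent.Lib.Helper8.QRLift.B

set_option autoImplicit false
set_option linter.style.haveILetI false

universe u

open TensorProduct Algebra

namespace Groth.Agent.H8.QRLift

section main

variable (A' B' : Type u) [CommRing A'] [CommRing B'] [Algebra A' B'] [Module.Flat A' B']
  [Algebra.FinitePresentation A' B'] (I : Ideal A')

/-- the double quotient comparison `C'/IC' ≅ (B'/IB')/(f̄)`. -/
noncomputable def dqEquiv {r : ℕ} (f' : Fin r → B') :
    ((B' ⧸ Ideal.span (Set.range f')) ⧸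
      I.map (algebraMap A' (B' ⧸ Ideal.span (Set.range f')))) ≃ₐ[A' ⧸ I]
    ((B' ⧸ Ideal.map (algebraMap A' B') I) ⧸
      Ideal.span (Set.range (fun i => Ideal.Quotient.mk (Ideal.map (algebraMap A' B') I) (f' i)))) := by
  have h_left : I.map (algebraMap A' (B' ⧸ Ideal.span (Set.range f'))) =
      (Ideal.map (algebraMap A' B') I).map (Ideal.Quotient.mkₐ A' (Ideal.span (Set.range f'))) := by
    show _ = (Ideal.map (algebraMap A' B') I).map
      (Ideal.Quotient.mk (Ideal.span (Set.range f')))
    rw [Ideal.map_map]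
    rfl
  have h_right : (Ideal.span (Set.range f')).map
      (Ideal.Quotient.mkₐ A' (Ideal.map (algebraMap A' B') I)) =
      Ideal.span (Set.range (fun i => Ideal.Quotient.mk (Ideal.map (algebraMap A' B') I) (f' i))) := by
    show (Ideal.span (Set.range f')).map
      (Ideal.Quotient.mk (Ideal.map (algebraMap A' B') I)) = _
    rw [Ideal.map_span, ← Set.range_comp]
    rfl
  exact AlgEquiv.extendScalarsOfSurjective Ideal.Quotient.mk_surjective
    ((Ideal.quotientEquivAlgOfEq A' h_left).trans
      ((DoubleQuot.quotQuotEquivCommₐ A' (Ideal.span (Set.range f'))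
        (Ideal.map (algebraMap A' B') I)).trans (Ideal.quotientEquivAlgOfEq A' h_right)))

theorem main9271 (hI : ∀ x ∈ I, IsNilpotent x) (r : ℕ) (f' : Fin r → B')
    (hq : CAlgX.IsQuasiRegular
      (fun i => Ideal.Quotient.mk (Ideal.map (algebraMap A' B') I) (f' i)))
    (hsm : Algebra.Smooth (A' ⧸ I)
      ((B' ⧸ Ideal.map (algebraMap A' B') I) ⧸
        Ideal.span (Set.range (fun i => Ideal.Quotient.mk (Ideal.map (algebraMap A' B') I) (f' i))))) :
    Algebra.Smooth A' (B' ⧸ Ideal.span (Set.range f')) := by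
  haveI hflatC : Module.Flat (A' ⧸ I)
      ((B' ⧸ Ideal.map (algebraMap A' B') I) ⧸
        Ideal.span (Set.range (fun i => Ideal.Quotient.mk (Ideal.map (algebraMap A' B') I) (f' i)))) :=
    inferInstance
  haveI : Module.Flat A' (B' ⧸ Ideal.span (Set.range f')) :=
    main9270 A' B' I hI r f' hq hflatC
  haveI : Algebra.FinitePresentation A' (B' ⧸ Ideal.span (Set.range f')) := by
    haveI : Algebra.FinitePresentation B' (B' ⧸ Ideal.span (Set.range f')) :=
      Algebra.FinitePresentation.quotient (Submodule.fg_span (Set.finite_range f'))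
    exact Algebra.FinitePresentation.trans A' B' _
  apply Algebra.Smooth.of_formallySmooth_fiber
  intro p hp
  have hIp : I ≤ p := by
    intro x hx
    obtain ⟨n, hn⟩ := hI x hx
    exact Ideal.IsPrime.mem_of_pow_mem inferInstance n (hn ▸ Ideal.zero_mem _)
  letI : Algebra (A' ⧸ I) p.ResidueField :=
    (Ideal.Quotient.lift I (algebraMap A' p.ResidueField)
      (fun a ha => Ideal.algebraMap_residueField_eq_zero.mpr (hIp ha))).toAlgebra
  haveI : IsScalarTower A' (A' ⧸ I) p.ResidueField :=
    IsScalarTower.of_algebraMap_eq (fun a => rfl)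
  haveI : Algebra.FormallySmooth (A' ⧸ I)
      ((B' ⧸ Ideal.span (Set.range f')) ⧸
        I.map (algebraMap A' (B' ⧸ Ideal.span (Set.range f')))) :=
    Algebra.FormallySmooth.of_equiv (dqEquiv A' B' I f').symm
  exact Algebra.FormallySmooth.of_equiv
    (fibEquiv A' (B' ⧸ Ideal.span (Set.range f')) I p.ResidueField)

end main

end Groth.Agent.H8.QRLift
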